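import Groth.Agent.Calg46.BigProj.Summand
import Groth.Prelude.Def_Found

/-!
Bass: countably generated big projective modules are free.
-/

set_option autoImplicit false
set_option linter.style.haveILetI false

noncomputable section

universe u

open scoped DirectSum

namespace Groth.Agent.Calg46.BigProj

variable {R : Type u} [CommRing R] {P : Type u} [AddCommGroup P] [Module R P]

theorem fg_range_step {m : ℕ} (E : P →ₗ[R] P) (u : (Fin m → R) →ₗ[R] P) (v : P →ₗ[R] (Fin m → R))
    (h1 : ∀ c, (v ∘ₗ u) c = c) (h2 : ∀ c, (E ∘ₗ u) c = 0) (h3 : ∀ x, (v ∘ₗ E) x = 0) (hE : (LinearMap.range E).FG) :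
    (LinearMap.range (E + u ∘ₗ v)).FG := by
  have hu : (LinearMap.range u).FG := by
    rw [LinearMap.range_eq_map]; exact Module.Finite.fg_top.map u
  have hle : LinearMap.range (E + u ∘ₗ v) ≤ LinearMap.range E ⊔ LinearMap.range u := by
    rintro _ ⟨x, rfl⟩
    exact Submodule.add_mem_sup ⟨x, rfl⟩ ⟨v x, rfl⟩
  have hge : LinearMap.range E ⊔ LinearMap.range u ≤ LinearMap.range (E + u ∘ₗ v) := by
    refine sup_le ?_ ?_
    · rintro _ ⟨x, rfl⟩
      refine ⟨x - u (v x), ?_⟩
      have e1 : E (u (v x)) = 0 := h2 _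
      have e2 : v (u (v x)) = v x := h1 _
      simp [e1, e2]
    · rintro _ ⟨c, rfl⟩
      refine ⟨u c, ?_⟩
      have e1 : E (u c) = 0 := h2 _
      have e2 : v (u c) = c := h1 _
      simp [e1, e2]
  rw [le_antisymm hle hge]
  exact hE.sup hu

theorem step [IsNoetherianRing (R ⧸ J R)] [Module.Projective R P] (hbig : Big R P) (E : P →ₗ[R] P)
    (hE : ∀ x, E (E x) = E x) (hfg : (LinearMap.range E).FG) (y : P) :
    ∃ (m : ℕ) (u : (Fin m → R) →ₗ[R] P) (v : P →ₗ[R] (Fin m → R)),
      v ∘ₗ u = LinearMap.id ∧ E ∘ₗ u = 0 ∧ v ∘ₗ E = 0 ∧ E y + u (v y) = y := by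
  let K := LinearMap.ker E
  let pr : P →ₗ[R] K := (LinearMap.id - E).codRestrict K fun x => by simp [K, hE]
  have hpr : pr ∘ₗ K.subtype = LinearMap.id := LinearMap.ext fun z => Subtype.ext (by
    simp [pr, (LinearMap.mem_ker.1 z.2)])
  haveI : Module.Projective R K := Module.Projective.of_split (R := R) (M := P) K.subtype pr hpr
  have hK : Big R K := fun m hm N hN htop => by
    refine hbig m hm (N.map K.subtype ⊔ LinearMap.range E) ((hN.map _).sup hfg) (top_le_iff.1 fun x _ => ?_)
    have h1 : pr x ∈ N ⊔ m • (⊤ : Submodule R K) := htop.ge Submodule.mem_top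
    have h2 := Submodule.mem_map_of_mem (f := K.subtype) h1
    rw [Submodule.map_sup, Submodule.map_smul''] at h2
    have h3 : (x - E x) ∈ N.map K.subtype ⊔ LinearMap.range E ⊔ m • (⊤ : Submodule R P) :=
      (sup_le_sup le_sup_left (Submodule.smul_mono le_rfl le_top) :
        N.map K.subtype ⊔ m • Submodule.map K.subtype ⊤ ≤ _) h2
    have h4 : E x ∈ N.map K.subtype ⊔ LinearMap.range E ⊔ m • (⊤ : Submodule R P) :=
      Submodule.mem_sup_left (Submodule.mem_sup_right ⟨x, rfl⟩)
    simpa using add_mem h3 h4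
  obtain ⟨m, u, v, hvu, z, hz⟩ := exists_free_summand hK (pr y)
  refine ⟨m, K.subtype ∘ₗ u, v ∘ₗ pr, ?_, LinearMap.ext fun c => LinearMap.mem_ker.1 (u c).2, ?_, ?_⟩
  · rw [LinearMap.comp_assoc, ← LinearMap.comp_assoc _ K.subtype pr, hpr, LinearMap.id_comp, hvu]
  · have h0 : pr ∘ₗ E = 0 := LinearMap.ext fun c => Subtype.ext (by simp [pr, hE])
    rw [LinearMap.comp_assoc, h0, LinearMap.comp_zero]
  · have h1 : u (v (pr y)) = pr y := by
      rw [← hz]
      exact congrArg u (LinearMap.congr_fun hvu z)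
    simp only [LinearMap.comp_apply, h1]
    simp [pr]

/-- Countably generated big projective modules are free. -/
theorem free_of_big [IsNoetherianRing (R ⧸ J R)] [Module.Projective R P] (hbig : Big R P)
    (hc : CAlg.IsCountablyGenerated R P) : Module.Free R P := by
  obtain ⟨s, hs, hspan⟩ := hc
  obtain ⟨gen, hgen⟩ := (hs.insert 0).exists_eq_range (Set.insert_nonempty _ _)
  choose m u v hvu hEu hvE hfix using fun (E : {E : P →ₗ[R] P // (∀ x, E (E x) = E x) ∧ (LinearMap.range E).FG}) (y : P) =>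
    step hbig E.1 E.2.1 E.2.2 y
  let St : ℕ → {E : P →ₗ[R] P // (∀ x, E (E x) = E x) ∧ (LinearMap.range E).FG} := fun n => Nat.rec
    ⟨0, fun _ => rfl, by rw [LinearMap.range_zero]; exact Submodule.fg_bot⟩
    (fun k E => ⟨E.1 + u E (gen k) ∘ₗ v E (gen k), fun x => by
      have h1 := LinearMap.congr_fun (hvu E (gen k))
      have h2 := LinearMap.congr_fun (hEu E (gen k))
      have h3 := LinearMap.congr_fun (hvE E (gen k))
      simp only [LinearMap.comp_apply, LinearMap.id_apply, LinearMap.zero_apply] at h1 h2 h3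
      simp [map_add, E.2.1, h1, h2, h3], fg_range_step (m := m E (gen k)) E.1 (u E (gen k)) (v E (gen k))
        (LinearMap.congr_fun (hvu E (gen k))) (LinearMap.congr_fun (hEu E (gen k))) (LinearMap.congr_fun (hvE E (gen k))) E.2.2⟩) n
  let E : ℕ → (P →ₗ[R] P) := fun n => (St n).1
  let a : ℕ → ℕ := fun n => m (St n) (gen n)
  let b : ∀ n, P →ₗ[R] (Fin (a n) → R) := fun n => v (St n) (gen n)
  let c : ∀ n, (Fin (a n) → R) →ₗ[R] P := fun n => u (St n) (gen n)
  have hbc : ∀ n z, b n (c n z) = z := fun n z => LinearMap.congr_fun (hvu _ _) z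
  have hEc : ∀ n z, E n (c n z) = 0 := fun n z => LinearMap.congr_fun (hEu _ _) z
  have hbE : ∀ n z, b n (E n z) = 0 := fun n z => LinearMap.congr_fun (hvE _ _) z
  have hidem : ∀ n z, E n (E n z) = E n z := fun n => (St n).2.1
  have hsucc : ∀ n z, E (n + 1) z = E n z + c n (b n z) := fun n z => rfl
  -- fixed points are increasing
  have hup : ∀ n j, n ≤ j → ∀ z, E n z = z → E j z = z := by
    intro n j hnj
    induction j, hnj using Nat.le_induction with
    | base => exact fun z hz => hz
    | succ j _ ih =>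
      intro z hz
      have h := ih z hz
      rw [hsucc, h, ← h, hbE, map_zero, add_zero]
  -- kernels are decreasing
  have hdown : ∀ n j, n ≤ j → ∀ z, E j z = 0 → E n z = 0 := by
    intro n j hnj
    induction j, hnj using Nat.le_induction with
    | base => exact fun z hz => hz
    | succ j _ ih =>
      intro z hz
      rw [hsucc] at hz
      refine ih z ?_
      have := congrArg (E j) hz
      rwa [map_add, hidem, hEc, add_zero, map_zero] at this
  have hfix' : ∀ n, E (n + 1) (gen n) = gen n := fun n => hfix _ _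
  have hev : ∀ x, ∃ N, E N x = x := by
    intro x
    have hx : x ∈ Submodule.span R s := hspan ▸ Submodule.mem_top
    induction hx using Submodule.span_induction with
    | mem y hy =>
      obtain ⟨k, rfl⟩ : y ∈ Set.range gen := hgen ▸ Set.mem_insert_of_mem 0 hy
      exact ⟨k + 1, hfix' k⟩
    | zero => exact ⟨0, map_zero _⟩
    | add p q _ _ hp hq =>
      obtain ⟨Np, hp⟩ := hp
      obtain ⟨Nq, hq⟩ := hq
      exact ⟨max Np Nq, by
        rw [map_add, hup _ _ (le_max_left _ _) p hp, hup _ _ (le_max_right _ _) q hq]⟩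
    | smul t p _ hp =>
      obtain ⟨Np, hp⟩ := hp
      exact ⟨Np, by rw [map_smul, hp]⟩
  have horth : ∀ j k, j ≠ k → ∀ z, b j (c k z) = 0 := by
    intro j k hjk z
    rcases Nat.lt_or_lt_of_ne hjk with h | h
    · have h0 : E (j + 1) (c k z) = 0 := hdown (j + 1) k h _ (hEc k z)
      have hz : c j (b j (c k z)) = 0 := by
        rw [hsucc, hdown j k h.le _ (hEc k z), zero_add] at h0
        exact h0
      rw [← hbc j (b j (c k z)), hz, map_zero]
    · have h1 : E j (c k z) = c k z := hup (k + 1) j h _ (by rw [hsucc, hEc, zero_add, hbc])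
      rw [← h1, hbE]
  -- assemble
  let Φ : (⨁ n, (Fin (a n) → R)) →ₗ[R] P := DirectSum.toModule R ℕ P c
  have hb : ∀ (z : ⨁ n, (Fin (a n) → R)) j, b j (Φ z) = z j := by
    intro z j
    induction z using DirectSum.induction_on with
    | zero => simp
    | of k y =>
      rw [← DirectSum.lof_eq_of R]
      simp only [Φ, DirectSum.toModule_lof]
      by_cases hjk : j = k
      · subst hjk
        rw [hbc, DirectSum.lof_apply]
      · rw [horth j k hjk, DirectSum.lof_eq_of, DirectSum.of_eq_of_ne _ _ _ hjk]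
    | add p q hp hq => rw [map_add, map_add, hp, hq]; rfl
  have hbij : Function.Bijective Φ := by
    constructor
    · intro z z' hzz'
      refine DFinsupp.ext fun j => ?_
      rw [← hb z j, ← hb z' j, hzz']
    · intro x
      obtain ⟨N, hN⟩ := hev x
      have hsum : ∀ n, ∑ k ∈ Finset.range n, c k (b k x) = E n x := by
        intro n
        induction n with
        | zero => rfl
        | succ n ih => rw [Finset.sum_range_succ, ih, hsucc]
      refine ⟨∑ k ∈ Finset.range N, DirectSum.lof R ℕ _ k (b k x), ?_⟩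
      rw [map_sum]
      conv_rhs => rw [← hN, ← hsum]
      exact Finset.sum_congr rfl fun k _ => by simp only [Φ, DirectSum.toModule_lof]
  let e' : (Π₀ n, (Fin (a n) → R)) ≃ₗ[R] P := LinearEquiv.ofBijective Φ hbij
  exact Module.Free.of_equiv e'

/-- `S7110`. -/
theorem exists_unimodular_of_span [IsNoetherianRing (R ⧸ J R)] [Module.Projective R P] (hbig : Big R P)
    (s : P) (M : Submodule R P) (hM : Submodule.span R {s} ⊔ M = ⊤) :
    ∃ m ∈ M, ∃ φ : P →ₗ[R] R, φ (s + m) = 1 := by
  have hfin : Module.Finite R (P ⧸ (M ⊔ J R • ⊤)) := by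
    refine ⟨⟨{(M ⊔ J R • ⊤).mkQ s}, top_le_iff.1 fun q _ => ?_⟩⟩
    obtain ⟨x, rfl⟩ := Submodule.mkQ_surjective _ q
    obtain ⟨a, ha, b, hb, rfl⟩ := Submodule.mem_sup.1 (hM.ge (Submodule.mem_top (x := x)))
    obtain ⟨c, rfl⟩ := Submodule.mem_span_singleton.1 ha
    rw [map_add, map_smul, show (M ⊔ J R • ⊤).mkQ b = 0 from
      (Submodule.Quotient.mk_eq_zero _).2 (Submodule.mem_sup_left hb), add_zero]
    exact Submodule.smul_mem _ _ (Submodule.subset_span (by simp))
  obtain ⟨y, hy, ψ, -, hψ⟩ := exists_unimodular hbig M hfin s ∅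
  exact ⟨y, hy, ψ, hψ⟩

/-- `S7111`. -/
theorem exists_stablyFree_summand [IsNoetherianRing (R ⧸ J R)] [Module.Projective R P] (hbig : Big R P) (s : P) :
    ∃ (K K' : Submodule R P), IsCompl K K' ∧ Module.Finite R K ∧ Module.Free R K ∧ s ∈ K := by
  obtain ⟨m, u, v, hvu, hs⟩ := exists_free_summand hbig s
  have h : ∀ c, v (u c) = c := LinearMap.congr_fun hvu
  have hu : Function.Injective u := fun a b hab => by rw [← h a, ← h b, hab]
  refine ⟨LinearMap.range u, LinearMap.ker v, ?_, ?_, Module.Free.of_equiv (LinearEquiv.ofInjective u hu), hs⟩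
  · refine IsCompl.of_eq ?_ (top_le_iff.1 fun x _ => ?_)
    · rw [eq_bot_iff]
      rintro _ ⟨⟨c, rfl⟩, hx⟩
      rw [SetLike.mem_coe, LinearMap.mem_ker, h] at hx
      simp [hx]
    · have : x = u (v x) + (x - u (v x)) := by abel
      rw [this]
      exact Submodule.add_mem_sup ⟨v x, rfl⟩ (by simp [h])
  · exact Module.Finite.equiv (LinearEquiv.ofInjective u hu)

end Groth.Agent.Calg46.BigProj
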