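import Groth.Agent.Calg46.BigProj.Unimodular
import Mathlib.LinearAlgebra.Matrix.NonsingularInverse
import Mathlib.LinearAlgebra.Matrix.ToLin

/-!
Every element of a big projective module lies in a finite free direct summand.
-/

set_option autoImplicit false
set_option linter.style.haveILetI false

noncomputable section

universe u

namespace Groth.Agent.Calg46.BigProj

variable {R : Type u} [CommRing R] {P : Type u} [AddCommGroup P] [Module R P]

/-- An almost biorthogonal family. -/
theorem exists_family [IsNoetherianRing (R ⧸ J R)] [Module.Projective R P] (hbig : Big R P) {n : ℕ}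
    (φ : Fin n → P →ₗ[R] R) (X : Finset P) (k : ℕ) :
    ∃ (e : Fin k → P) (ψ : Fin k → P →ₗ[R] R),
      (∀ i, ∀ x ∈ X, ψ i x = 0) ∧ (∀ a i, φ a (e i) ∈ J R) ∧ ∀ i j, ψ i (e j) - (if i = j then 1 else 0) ∈ J R := by
  classical
  haveI := isNoetherian_quot_jacobson (R := R)
  induction k with
  | zero => exact ⟨Fin.elim0, Fin.elim0, fun i => i.elim0, fun _ i => i.elim0, fun i => i.elim0⟩
  | succ k ih =>
    obtain ⟨e, ψ, hψX, hφe, hψe⟩ := ih
    let Φ : P →ₗ[R] (Fin n ⊕ Fin k → R ⧸ J R) :=
      LinearMap.pi fun a => Submodule.mkQ (J R) ∘ₗ Sum.elim φ ψ a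
    let M := LinearMap.ker Φ
    haveI : IsNoetherian R (P ⧸ M) := isNoetherian_of_injective (Submodule.liftQ M Φ le_rfl)
      (LinearMap.ker_eq_bot.1 (by rw [Submodule.ker_liftQ, Submodule.mkQ_map_self]))
    have hfin : Module.Finite R (P ⧸ (M ⊔ J R • ⊤)) :=
      Module.Finite.of_surjective (Submodule.factor (le_sup_left : M ≤ M ⊔ J R • ⊤))
        (Submodule.factor_surjective _)
    obtain ⟨y, hy, χ, hχX, hχy⟩ := exists_unimodular hbig M hfin 0 (X ∪ Finset.univ.image e)
    rw [zero_add] at hχy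
    have hy' : ∀ a, Sum.elim φ ψ a y ∈ J R := fun a =>
      (Submodule.Quotient.mk_eq_zero (J R)).1 (congrFun (LinearMap.mem_ker.1 hy) a)
    have hχe : ∀ i, χ (e i) = 0 := fun i =>
      hχX _ (Finset.mem_union_right _ (Finset.mem_image_of_mem e (Finset.mem_univ i)))
    refine ⟨Fin.snoc e y, Fin.snoc ψ χ, fun i x hx => ?_, fun a i => ?_, fun i j => ?_⟩
    · induction i using Fin.lastCases with
      | last => rw [Fin.snoc_last]; exact hχX x (Finset.mem_union_left _ hx)
      | cast i => rw [Fin.snoc_castSucc]; exact hψX i x hx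
    · induction i using Fin.lastCases with
      | last => rw [Fin.snoc_last]; exact hy' (Sum.inl a)
      | cast i => rw [Fin.snoc_castSucc]; exact hφe a i
    · induction i using Fin.lastCases with
      | last =>
        induction j using Fin.lastCases with
        | last => simp [hχy]
        | cast j => simp [hχe, (Fin.castSucc_lt_last j).ne']
      | cast i =>
        induction j using Fin.lastCases with
        | last => simp only [Fin.snoc_castSucc, Fin.snoc_last, (Fin.castSucc_lt_last i).ne, if_false, sub_zero]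
                  exact hy' (Sum.inr i)
        | cast j => simpa [Fin.castSucc_inj] using hψe i j

theorem isUnit_of_sub_one_mem {n : ℕ} (A : Matrix (Fin n) (Fin n) R)
    (h : ∀ i j, A i j - (if i = j then 1 else 0) ∈ J R) : IsUnit A := by
  classical
  rw [Matrix.isUnit_iff_isUnit_det]
  have h1 : A.map (Ideal.Quotient.mk (J R)) = 1 := by
    ext i j
    rw [Matrix.map_apply, ← sub_eq_zero, Matrix.one_apply]
    have := Ideal.Quotient.eq_zero_iff_mem.2 (h i j)
    split_ifs with hij <;> simpa [hij] using this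
  have h2 : A.det - 1 ∈ J R := by
    rw [← Ideal.Quotient.eq_zero_iff_mem, map_sub, map_one, RingHom.map_det, RingHom.mapMatrix_apply, h1,
      Matrix.det_one, sub_self]
  simpa using Ideal.mem_jacobson_bot.1 h2 1

/-- Every element lies in a finite free direct summand. -/
theorem exists_free_summand [IsNoetherianRing (R ⧸ J R)] [Module.Projective R P] (hbig : Big R P) (s : P) :
    ∃ (m : ℕ) (u : (Fin m → R) →ₗ[R] P) (v : P →ₗ[R] (Fin m → R)), v ∘ₗ u = LinearMap.id ∧ s ∈ LinearMap.range u := by
  classical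
  obtain ⟨s₀, hs₀⟩ := Module.projective_def'.1 ‹Module.Projective R P›
  let eI := (s₀ s).support.equivFin
  let n := (s₀ s).support.card
  let φ : Fin n → P →ₗ[R] R := fun a => Finsupp.lapply (eI.symm a : P) ∘ₗ s₀
  let x : Fin n → P := fun a => (eI.symm a : P)
  let a : Fin n → R := fun i => φ i s
  have hs : s = ∑ i, a i • x i := by
    conv_lhs => rw [← show Finsupp.linearCombination R id (s₀ s) = s from LinearMap.congr_fun hs₀ s,
      Finsupp.linearCombination_apply, Finsupp.sum, ← Finset.sum_coe_sort, ← eI.symm.sum_comp]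
    rfl
  obtain ⟨e, ψ₀, hψX, hφe, hψe⟩ := exists_family hbig φ (Finset.univ.image x) n
  let A : Matrix (Fin n) (Fin n) R := Matrix.of fun i j => ψ₀ i (e j)
  have hA : IsUnit A := isUnit_of_sub_one_mem A hψe
  let v₀ : P →ₗ[R] (Fin n → R) := Matrix.mulVecLin A⁻¹ ∘ₗ LinearMap.pi ψ₀
  let u₀ : (Fin n → R) →ₗ[R] P := Fintype.linearCombination R e
  let ux : (Fin n → R) →ₗ[R] P := Fintype.linearCombination R x
  let f : P →ₗ[R] (Fin n → R) := LinearMap.pi φ
  have hψ0 : LinearMap.pi ψ₀ ∘ₗ u₀ = Matrix.mulVecLin A := LinearMap.ext fun c => funext fun i => by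
    simp [u₀, A, Fintype.linearCombination_apply, Matrix.mulVec, dotProduct, mul_comm]
  have hvu : v₀ ∘ₗ u₀ = LinearMap.id := by
    rw [LinearMap.comp_assoc, hψ0, ← Matrix.mulVecLin_mul, Matrix.nonsing_inv_mul _ ((Matrix.isUnit_iff_isUnit_det A).1 hA),
      Matrix.mulVecLin_one]
  have hvx : v₀ ∘ₗ ux = 0 := by
    have : LinearMap.pi ψ₀ ∘ₗ ux = 0 := LinearMap.ext fun c => funext fun i => by
      simp [ux, Fintype.linearCombination_apply, hψX i _ (Finset.mem_image_of_mem x (Finset.mem_univ _))]
    rw [LinearMap.comp_assoc, this, LinearMap.comp_zero]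
  let B : Matrix (Fin n) (Fin n) R := 1 + Matrix.of fun i j => φ i (e j)
  have hB : IsUnit B := isUnit_of_sub_one_mem B fun i j => by
    simp only [B, Matrix.add_apply, Matrix.one_apply, Matrix.of_apply, add_sub_cancel_left]
    exact hφe i j
  have hBlin : LinearMap.id + f ∘ₗ u₀ = Matrix.mulVecLin B := LinearMap.ext fun c => funext fun i => by
    simp [f, u₀, B, Fintype.linearCombination_apply, Matrix.mulVec, dotProduct, mul_comm]
  let G : (Fin n → R) →ₗ[R] (Fin n → R) := Matrix.mulVecLin B⁻¹
  have hG1 : ∀ c, G (c + f (u₀ c)) = c := fun c => by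
    have h1 : c + f (u₀ c) = Matrix.mulVecLin B c := LinearMap.congr_fun hBlin c
    rw [h1, ← LinearMap.comp_apply, ← Matrix.mulVecLin_mul, Matrix.nonsing_inv_mul _ ((Matrix.isUnit_iff_isUnit_det B).1 hB),
      Matrix.mulVecLin_one, LinearMap.id_apply]
  have hG2 : ∀ c, G c + f (u₀ (G c)) = c := fun c => by
    have h1 : G c + f (u₀ (G c)) = Matrix.mulVecLin B (G c) := LinearMap.congr_fun hBlin (G c)
    rw [h1, ← LinearMap.comp_apply, ← Matrix.mulVecLin_mul, Matrix.mul_nonsing_inv _ ((Matrix.isUnit_iff_isUnit_det B).1 hB),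
      Matrix.mulVecLin_one, LinearMap.id_apply]
  have hvu' : ∀ c, v₀ (u₀ c) = c := LinearMap.congr_fun hvu
  have hvx' : ∀ c, v₀ (ux c) = 0 := LinearMap.congr_fun hvx
  let α : P →ₗ[R] P := (LinearMap.id - ux ∘ₗ v₀) ∘ₗ (LinearMap.id + u₀ ∘ₗ f)
  let β : P →ₗ[R] P := (LinearMap.id - u₀ ∘ₗ G ∘ₗ f) ∘ₗ (LinearMap.id + ux ∘ₗ v₀)
  have hαβ : ∀ z, α (β z) = z := fun z => by
    have h1 : ∀ w, (w - u₀ (G (f w))) + u₀ (f (w - u₀ (G (f w)))) = w := fun w => by
      have h3 : f (w - u₀ (G (f w))) = G (f w) := by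
        rw [map_sub, sub_eq_iff_eq_add]
        exact (hG2 (f w)).symm
      rw [h3, sub_add_cancel]
    simp only [α, β, LinearMap.comp_apply, LinearMap.sub_apply, LinearMap.add_apply, LinearMap.id_apply]
    rw [h1]
    simp [hvx']
  have hαs : α s = u₀ a := by
    have hux : ux a = s := by rw [hs]; simp [ux, Fintype.linearCombination_apply]
    have hfs : f s = a := rfl
    have hv : v₀ s = 0 := by rw [← hux]; exact hvx' a
    simp only [α, LinearMap.comp_apply, LinearMap.sub_apply, LinearMap.add_apply, LinearMap.id_apply, hfs]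
    rw [map_add, hv, hvu', zero_add, hux]
    abel
  refine ⟨n, β ∘ₗ u₀, v₀ ∘ₗ α, LinearMap.ext fun c => ?_, a, ?_⟩
  · show v₀ (α (β (u₀ c))) = c
    rw [hαβ, hvu']
  · show β (u₀ a) = s
    rw [← hαs]
    have hinj : Function.Injective α := by
      intro z w hzw
      simp only [α, LinearMap.comp_apply, LinearMap.sub_apply, LinearMap.add_apply, LinearMap.id_apply] at hzw
      have h1 : ∀ p q : P, p - ux (v₀ p) = q - ux (v₀ q) → p = q := fun p q h => by
        have h2 := congrArg v₀ h
        simp only [map_sub, hvx', sub_zero] at h2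
        rwa [h2, sub_left_inj] at h
      have h3 := h1 _ _ hzw
      have h4 := congrArg f h3
      simp only [map_add] at h4
      have h5 : f z = f w := by
        rw [← hG1 (f z), ← hG1 (f w), h4]
      rwa [h5, add_left_inj] at h3
    exact hinj (hαβ _)

end Groth.Agent.Calg46.BigProj
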