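import Groth.Agent.CAlgUI.Local
import Groth.Agent.CAlgUI.Projective
import Mathlib.RingTheory.Jacobson.Ideal
import Mathlib.RingTheory.Localization.AtPrime.Basic
import Mathlib.Algebra.Module.LocalizedModule.AtPrime
import Mathlib.RingTheory.LocalProperties.Projective

/-!
Unimodular elements in projective modules of infinite rank.
-/

set_option autoImplicit false
set_option linter.style.haveILetI false

noncomputable section

universe u

namespace Groth.Agent.Calg46.BigProj

variable (R : Type u) [CommRing R] (P : Type u) [AddCommGroup P] [Module R P]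

/-- The Jacobson radical. -/
abbrev J : Ideal R := (⊥ : Ideal R).jacobson

/-- No fibre at a maximal ideal is spanned by finitely many elements. -/
def Big : Prop :=
  ∀ (m : Ideal R), m.IsMaximal → ∀ N : Submodule R P, N.FG → N ⊔ m • ⊤ ≠ ⊤

theorem finite_of_span_sup {A Q : Type u} [CommRing A] [IsLocalRing A] [AddCommGroup Q] [Module A Q]
    [Module.Free A Q] (T : Finset Q)
    (hT : Submodule.span A (T : Set Q) ⊔ IsLocalRing.maximalIdeal A • ⊤ = ⊤) : Module.Finite A Q := by
  classical
  let b := Module.Free.chooseBasis A Q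
  let I₀ := T.biUnion fun t => (b.repr t).support
  have hI : ∀ i, i ∈ I₀ := fun i => by
    by_contra hi
    have h1 : Submodule.span A (T : Set Q) ⊔ IsLocalRing.maximalIdeal A • ⊤ ≤
        Submodule.comap (b.coord i) (IsLocalRing.maximalIdeal A) := by
      refine sup_le (Submodule.span_le.2 fun t ht => ?_) (Submodule.smul_le.2 fun r hr q _ => ?_)
      · have h0 : b.repr t i = 0 := Finsupp.notMem_support_iff.1 fun h => hi (Finset.mem_biUnion.2 ⟨t, ht, h⟩)
        show b.coord i t ∈ IsLocalRing.maximalIdeal A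
        rw [Module.Basis.coord_apply, h0]
        exact zero_mem _
      · show b.coord i (r • q) ∈ IsLocalRing.maximalIdeal A
        rw [map_smul, smul_eq_mul]
        exact Ideal.mul_mem_right _ _ hr
    have h2 := h1 (hT ▸ Submodule.mem_top (x := b i))
    have h3 : b.coord i (b i) ∈ IsLocalRing.maximalIdeal A := h2
    rw [Module.Basis.coord_apply, b.repr_self, Finsupp.single_eq_same] at h3
    exact (IsLocalRing.maximalIdeal.isMaximal A).ne_top (Ideal.eq_top_of_isUnit_mem _ h3 isUnit_one)
  haveI : Finite (Module.Free.ChooseBasisIndex A Q) :=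
    Finite.of_injective (fun i => (⟨i, hI i⟩ : I₀)) fun i j h => congrArg Subtype.val h
  exact Module.Finite.of_basis b

theorem big_of_not_finite [Module.Projective R P]
    (hP : ∀ (m : Ideal R) [m.IsMaximal],
      ¬ Module.Finite (Localization.AtPrime m) (LocalizedModule m.primeCompl P)) : Big R P := by
  classical
  intro m hm N hN htop
  haveI := hm
  refine hP m ?_
  let A := Localization.AtPrime m
  let Q := LocalizedModule m.primeCompl P
  let ℓ : P →ₗ[R] Q := LocalizedModule.mkLinearMap m.primeCompl P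
  haveI : Module.Projective A Q := Module.projective_of_isLocalizedModule (Rₛ := A) m.primeCompl ℓ
  obtain ⟨κ, L, hL, hc⟩ := CAlgUI.exists_countablyGenerated_of_projective (R := A) (M := Q)
  haveI : Module.Free A Q := CAlgUI.free_of_projective_local Q L hL hc
  obtain ⟨T, hT⟩ := hN
  refine finite_of_span_sup (T.image ℓ) (top_le_iff.1 fun q _ => ?_)
  obtain ⟨⟨p, s⟩, hs⟩ := IsLocalizedModule.surj m.primeCompl ℓ q
  have h1 : ℓ p ∈ Submodule.span A ((T.image ℓ : Finset Q) : Set Q) ⊔ IsLocalRing.maximalIdeal A • ⊤ := by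
    have hp : p ∈ N ⊔ m • ⊤ := htop.ge Submodule.mem_top
    obtain ⟨a, ha, b, hb, rfl⟩ := Submodule.mem_sup.1 hp
    rw [map_add]
    refine add_mem (Submodule.mem_sup_left ?_) (Submodule.mem_sup_right ?_)
    · have hle : N ≤ ((Submodule.span A ((T.image ℓ : Finset Q) : Set Q)).restrictScalars R).comap ℓ := by
        rw [← hT, Submodule.span_le]
        exact fun t ht => Submodule.subset_span (Finset.mem_image_of_mem ℓ ht)
      exact hle ha
    · refine Submodule.smul_induction_on hb (fun r hr x _ => ?_) fun x y hx hy => by rw [map_add]; exact add_mem hx hy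
      rw [map_smul, ← algebraMap_smul A r]
      refine Submodule.smul_mem_smul ?_ trivial
      exact (IsLocalization.AtPrime.to_map_mem_maximal_iff A m r).2 hr
  obtain ⟨u, hu⟩ := (IsLocalization.map_units A s).exists_left_inv
  have h2 := Submodule.smul_mem _ u h1
  rwa [← hs, Submonoid.smul_def, ← algebraMap_smul A (s : R), ← mul_smul, hu, one_smul] at h2

variable {R P}

/-- Forms killing finitely many elements detect everything outside a finitely generated submodule. -/
theorem exists_detect [Module.Projective R P] (X : Finset P) :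
    ∃ N : Submodule R P, N.FG ∧ ∀ (m : Ideal R) (y : P), y ∉ N ⊔ m • ⊤ →
      ∃ ψ : P →ₗ[R] R, (∀ x ∈ X, ψ x = 0) ∧ ψ y ∉ m := by
  classical
  obtain ⟨s₀, hs₀⟩ := Module.projective_def'.1 ‹Module.Projective R P›
  let I := X.biUnion fun x => (s₀ x).support
  refine ⟨Submodule.span R (I : Set P), Submodule.fg_span I.finite_toSet, fun m y hy => ?_⟩
  by_contra hno
  refine hy ?_
  have hy' : Finsupp.linearCombination R id (s₀ y) = y := LinearMap.congr_fun hs₀ y
  rw [← hy', Finsupp.linearCombination_apply]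
  refine Submodule.sum_mem _ fun i _ => ?_
  by_cases hi : i ∈ I
  · exact Submodule.mem_sup_left (Submodule.smul_mem _ _ (Submodule.subset_span hi))
  · refine Submodule.mem_sup_right (Submodule.smul_mem_smul ?_ trivial)
    by_contra hc
    exact hno ⟨Finsupp.lapply i ∘ₗ s₀, fun x hx => Finsupp.notMem_support_iff.1 fun h =>
      hi (Finset.mem_biUnion.2 ⟨x, hx, h⟩), hc⟩

theorem isNoetherian_quot_jacobson [IsNoetherianRing (R ⧸ J R)] : IsNoetherian R (R ⧸ J R) :=
  haveI : RingHomSurjective (Ideal.Quotient.mk (J R)) := ⟨Ideal.Quotient.mk_surjective⟩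
  (LinearMap.isNoetherian_iff_of_bijective
    ({ toFun := id, map_add' := fun _ _ => rfl, map_smul' := fun r x => Algebra.smul_def r x } :
      (R ⧸ J R) →ₛₗ[Ideal.Quotient.mk (J R)] (R ⧸ J R)) Function.bijective_id).2 inferInstance

theorem isNoetherian_of_finite_of_jacobson [IsNoetherianRing (R ⧸ J R)] {Q : Type u} [AddCommGroup Q] [Module R Q]
    [Module.Finite R Q] (h : ∀ a ∈ J R, ∀ q : Q, a • q = 0) : IsNoetherian R Q := by
  classical
  haveI := isNoetherian_quot_jacobson (R := R)
  obtain ⟨n, π, hπ⟩ := Module.Finite.exists_fin' R Q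
  let g : ∀ i : Fin n, (R ⧸ J R) →ₗ[R] Q := fun i =>
    Submodule.liftQ (J R) (LinearMap.toSpanSingleton R Q (π (Pi.single i 1))) fun a ha => by
      rw [LinearMap.mem_ker, LinearMap.toSpanSingleton_apply]
      exact h a ha _
  refine isNoetherian_of_surjective (LinearMap.lsum R (fun _ => R ⧸ J R) R g) (LinearMap.range_eq_top.2 fun q => ?_)
  obtain ⟨v, rfl⟩ := hπ q
  refine ⟨fun i => Ideal.Quotient.mk _ (v i), ?_⟩
  conv_rhs => rw [pi_eq_sum_univ' v, map_sum]
  rw [LinearMap.lsum_apply, LinearMap.sum_apply]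
  exact Finset.sum_congr rfl fun i _ => by
    show v i • π (Pi.single i 1) = π (v i • Pi.single i 1)
    rw [map_smul]

/-- Unimodular elements in `s + M`, with a form killing a given finite set. -/
theorem exists_unimodular [IsNoetherianRing (R ⧸ J R)] [Module.Projective R P] (hbig : Big R P)
    (M : Submodule R P) (hM : Module.Finite R (P ⧸ (M ⊔ J R • ⊤))) (s : P) (X : Finset P) :
    ∃ y ∈ M, ∃ ψ : P →ₗ[R] R, (∀ x ∈ X, ψ x = 0) ∧ ψ (s + y) = 1 := by
  classical
  haveI := isNoetherian_quot_jacobson (R := R)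
  let Ψ : Submodule R (P →ₗ[R] R) := ⨅ x ∈ X, LinearMap.ker (LinearMap.applyₗ x)
  have hΨ : ∀ ψ : P →ₗ[R] R, ψ ∈ Ψ ↔ ∀ x ∈ X, ψ x = 0 := fun ψ => by simp [Ψ, Submodule.mem_iInf]
  let c : P → Ideal (R ⧸ J R) := fun z =>
    Ideal.map (Ideal.Quotient.mk (J R)) (Submodule.map (LinearMap.applyₗ z) Ψ)
  have hJ : ∀ {ψ : P →ₗ[R] R} {z : P}, z ∈ J R • (⊤ : Submodule R P) → ψ z ∈ J R := fun {ψ z} hz => by
    have := Submodule.mem_map_of_mem (f := ψ) hz
    rw [Submodule.map_smul''] at this
    exact Submodule.smul_le.2 (fun a ha b _ => by rw [smul_eq_mul]; exact Ideal.mul_mem_right _ _ ha) this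
  suffices h : ∀ I : Ideal (R ⧸ J R), ∀ y ∈ M, c (s + y) = I →
      ∃ y ∈ M, ∃ ψ : P →ₗ[R] R, (∀ x ∈ X, ψ x = 0) ∧ ψ (s + y) = 1 from h _ 0 (zero_mem _) rfl
  intro I
  induction I using WellFoundedGT.induction with
  | ind I ih =>
    intro y hy hI
    by_cases htop : I = ⊤
    · have h1 : (1 : R ⧸ J R) ∈ c (s + y) := by rw [hI, htop]; exact Submodule.mem_top
      obtain ⟨r, hr, hr1⟩ := (Ideal.mem_map_iff_of_surjective _ Ideal.Quotient.mk_surjective).1 h1
      obtain ⟨ψ, hψ, hψr⟩ := hr
      have hψr' : ψ (s + y) = r := hψr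
      have hu : IsUnit r := by
        have h2 : r - 1 ∈ J R := Ideal.Quotient.eq.1 (hr1.trans (map_one _).symm)
        have h3 := Ideal.mem_jacobson_bot.1 h2 1
        simpa using h3
      obtain ⟨v, hv⟩ := hu.exists_left_inv
      exact ⟨y, hy, v • ψ, fun x hx => by simp [(hΨ ψ).1 hψ x hx], by rw [LinearMap.smul_apply, hψr', smul_eq_mul, hv]⟩
    · obtain ⟨mb, hmb, hIm⟩ := Ideal.exists_le_maximal I htop
      let m := mb.comap (Ideal.Quotient.mk (J R))
      haveI hm : m.IsMaximal := Ideal.comap_isMaximal_of_surjective _ Ideal.Quotient.mk_surjective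
      obtain ⟨N, hN, hdet⟩ := exists_detect (R := R) X
      obtain ⟨S, hS⟩ := IsNoetherian.noetherian I
      have hlift : ∀ a : S, ∃ ψ ∈ Ψ, Ideal.Quotient.mk (J R) (ψ (s + y)) = (a : R ⧸ J R) := fun a => by
        have ha : (a : R ⧸ J R) ∈ c (s + y) := by rw [hI, ← hS]; exact Submodule.subset_span a.2
        obtain ⟨r, ⟨ψ, hψ, rfl⟩, hr⟩ := (Ideal.mem_map_iff_of_surjective _ Ideal.Quotient.mk_surjective).1 ha
        exact ⟨ψ, hψ, hr⟩
      choose φ hφ hφS using hlift
      let Φ : P →ₗ[R] (S → R ⧸ J R) := LinearMap.pi fun a => (Submodule.mkQ (J R)) ∘ₗ φ a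
      let A := M ⊔ J R • ⊤
      let M'' := A ⊓ LinearMap.ker Φ
      haveI hA : IsNoetherian R (P ⧸ A) := @isNoetherian_of_finite_of_jacobson R _ _ _ _ _ hM fun a ha q => by
        obtain ⟨q, rfl⟩ := Submodule.Quotient.mk_surjective _ q
        rw [← Submodule.Quotient.mk_smul, Submodule.Quotient.mk_eq_zero]
        exact Submodule.mem_sup_right (Submodule.smul_mem_smul ha trivial)
      let Ω : (P ⧸ M'') →ₗ[R] (P ⧸ A) × (S → R ⧸ J R) :=
        Submodule.liftQ M'' (A.mkQ.prod Φ) fun z hz => by
          rw [LinearMap.ker_prod, Submodule.ker_mkQ]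
          exact hz
      have hΩ : Function.Injective Ω := by
        rw [← LinearMap.ker_eq_bot, Submodule.ker_liftQ, LinearMap.ker_prod, Submodule.ker_mkQ,
          Submodule.mkQ_map_self]
      haveI : IsNoetherian R (P ⧸ M'') := isNoetherian_of_injective Ω hΩ
      obtain ⟨U, hU⟩ : (⊤ : Submodule R (P ⧸ M'')).FG := IsNoetherian.noetherian _
      obtain ⟨z, hz, hzN⟩ : ∃ z ∈ M'', z ∉ N ⊔ m • ⊤ := by
        by_contra hno
        push Not at hno
        let V := U.image fun q => Function.surjInv (Submodule.Quotient.mk_surjective M'') q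
        refine hbig m hm (Submodule.span R (V : Set P) ⊔ N) ((Submodule.fg_span V.finite_toSet).sup hN) ?_
        refine top_le_iff.1 ?_
        have hV : Submodule.span R (V : Set P) ⊔ M'' = ⊤ := by
          refine top_le_iff.1 ?_
          have : (Submodule.span R (V : Set P)).map M''.mkQ = ⊤ := by
            rw [Submodule.map_span, ← hU, Finset.coe_image, ← Set.image_comp]
            congr 1
            conv_rhs => rw [← Set.image_id (U : Set (P ⧸ M''))]
            exact Set.image_congr fun q _ => Function.surjInv_eq (Submodule.Quotient.mk_surjective M'') q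
          have h2 := congrArg (Submodule.comap M''.mkQ) this
          rw [Submodule.comap_map_eq, Submodule.ker_mkQ, Submodule.comap_top] at h2
          exact h2.ge
        refine hV.ge.trans ?_
        rw [sup_assoc]
        exact sup_le_sup le_rfl fun w hw => hno w hw
      obtain ⟨z₀, hz₀, j, hj, rfl⟩ := Submodule.mem_sup.1 hz.1
      obtain ⟨ψ, hψX, hψm⟩ := hdet m _ hzN
      have hJm : J R ≤ m := sInf_le ⟨bot_le, hm⟩
      have hψz₀ : ψ z₀ ∉ m := fun hh => hψm (by rw [map_add]; exact add_mem hh (hJm (hJ hj)))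
      have hφz₀ : ∀ a, φ a z₀ ∈ J R := fun a => by
        have h1 : Submodule.Quotient.mk (φ a (z₀ + j)) = (0 : R ⧸ J R) := congrFun (LinearMap.mem_ker.1 hz.2) a
        rw [Submodule.Quotient.mk_eq_zero, map_add] at h1
        exact (Submodule.add_mem_iff_left _ (hJ hj)).1 h1
      have hle : I ≤ c (s + (y + z₀)) := by
        rw [← hS, Submodule.span_le]
        intro a ha
        have h1 : Ideal.Quotient.mk (J R) (φ ⟨a, ha⟩ (s + (y + z₀))) = a := by
          rw [← add_assoc, map_add, map_add, Ideal.Quotient.eq_zero_iff_mem.2 (hφz₀ _), add_zero]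
          exact hφS ⟨a, ha⟩
        rw [← h1]
        exact Ideal.mem_map_of_mem _ ⟨_, hφ _, rfl⟩
      have hlt : I < c (s + (y + z₀)) := lt_of_le_not_ge hle fun hge => by
        have h1 : ψ (s + (y + z₀)) ∈ m := hIm (hge (Ideal.mem_map_of_mem _ ⟨ψ, (hΨ ψ).2 hψX, rfl⟩))
        have h2 : ψ (s + y) ∈ m := hIm (hI ▸ Ideal.mem_map_of_mem _ ⟨ψ, (hΨ ψ).2 hψX, rfl⟩)
        rw [← add_assoc, map_add] at h1
        exact hψz₀ ((Ideal.add_mem_iff_right _ h2).1 h1)
      exact ih _ hlt (y + z₀) (add_mem hy hz₀) rfl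

end Groth.Agent.Calg46.BigProj
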